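import Cfsg.Agent.H392.UG.Base
import Cfsg.Agent.H278.ElDefs
import Cfsg.Agent.S5663
import Cfsg.Agent.Prune
set_option linter.all false
prune_inst 0x7f00000000000000000000000000000000000000000000000000000000000000000000000000000000000000000000000000000000000000000000000000000000000000000000000000000000000000003fffffffffffffffffffffffffffbeffbdffffffff
open scoped Cfsg.Agent.FastGrp

/-!
# EL-GEO-U: proper subgroups of `PSU_n(q)`, `n ≥ 4`, `(n, q) ≠ (4, 2)`

`geoU` : a proper subgroup `M` of `PSU_n(q)` misses a prime divisor of `|PSU_n(q)|`, or its preimage `pre M` in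
`GL_n(q²)` is in the residual class of the Aschbacher theorem.
-/

set_option autoImplicit false
set_option linter.unusedSectionVars false

namespace Cfsg.Agent.H251.GeoU

open Cfsg Cfsg.Geo
open scoped Matrix MatrixGroups

variable {F : Type*} [Field F] [Fintype F] {n q : ℕ}

/-- The preimage in `GL_n(F)` of a subgroup of `PSU_n(q)`. -/
def pre (M : Subgroup (PSU n F q)) : Subgroup (GL (Fin n) F) :=
  (M.comap (QuotientGroup.mk' (Subgroup.center (SU n F q)))).map (H918.suHom n F q)

theorem pre_le (M : Subgroup (PSU n F q)) : pre M ≤ Cfsg.GU n F q ⊓ specialLinear (Fin n) F := by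
  rintro _ ⟨A, -, rfl⟩
  exact H918.suHom_mem A

theorem card_dvd_pre (M : Subgroup (PSU n F q)) : Nat.card M ∣ Nat.card (pre M) := by
  have h1 : Nat.card (pre M) = Nat.card (M.comap (QuotientGroup.mk' (Subgroup.center (SU n F q)))) :=
    (Nat.card_congr (Subgroup.equivMapOfInjective _ _ H918.suHom_injective).toEquiv).symm
  rw [h1]
  have h2 : (M.comap (QuotientGroup.mk' (Subgroup.center (SU n F q)))).map
      (QuotientGroup.mk' (Subgroup.center (SU n F q))) = M :=
    Subgroup.map_comap_eq_self_of_surjective (QuotientGroup.mk'_surjective _) M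
  conv_lhs => rw [← h2]
  exact Subgroup.card_map_dvd _ _

theorem pre_proper (M : Subgroup (PSU n F q)) (hM : M ≠ ⊤) :
    pre M ⊔ (scalars (Fin n) F ⊓ (Cfsg.GU n F q ⊓ specialLinear (Fin n) F)) ≠
      Cfsg.GU n F q ⊓ specialLinear (Fin n) F := by
  have h1 : scalars (Fin n) F ⊓ (Cfsg.GU n F q ⊓ specialLinear (Fin n) F) ≤ pre M := by
    rintro z ⟨hz1, hz2⟩
    obtain ⟨A, hA⟩ := H918.exists_suHom hz2
    refine ⟨A, ?_, hA⟩
    rw [Subgroup.coe_comap, Set.mem_preimage]
    have h2 : A ∈ Subgroup.center (SU n F q) := by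
      rw [Subgroup.mem_center_iff]
      intro B
      apply H918.suHom_injective
      rw [map_mul, map_mul, hA]
      exact (GeoCard.scalars_central hz1 _).symm
    have h3 : QuotientGroup.mk' (Subgroup.center (SU n F q)) A = 1 := by
      rw [QuotientGroup.mk'_apply, QuotientGroup.eq_one_iff]
      exact h2
    rw [h3]
    exact M.one_mem
  rw [sup_eq_left.2 h1]
  intro h2
  apply hM
  rw [eq_top_iff]
  intro x _
  obtain ⟨A, rfl⟩ := QuotientGroup.mk'_surjective _ x
  have h3 : H918.suHom n F q A ∈ pre M := by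
    rw [h2]
    exact H918.suHom_mem A
  obtain ⟨B, hB, hBA⟩ := h3
  rw [← H918.suHom_injective hBA]
  exact hB

/-- **EL-GEO-U.** -/
theorem geoU (hF : Fintype.card F = q ^ 2) (hn : 4 ≤ n) (h42 : ¬ (n = 4 ∧ q = 2)) (M : Subgroup (PSU n F q))
    (hM : M ≠ ⊤) :
    (∃ v : ℕ, v.Prime ∧ v ∣ Nat.card (PSU n F q) ∧ ¬ v ∣ Nat.card M) ∨ InUnitaryResidualClass (pre M) := by
  rcases S5663.result (F := F) n q hF (by omega) (by omega) (pre M) (pre_le M) (pre_proper M hM) with
    ⟨X, hX, hle⟩ | h
  · left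
    obtain ⟨v, hv, hv1, hv2⟩ := exists_prime hF hn h42 hX
    refine ⟨v, hv, hv1, fun h => hv2 ?_⟩
    exact (h.trans (card_dvd_pre M)).trans (Subgroup.card_dvd_of_le hle)
  · exact Or.inr h

end Cfsg.Agent.H251.GeoU
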