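import Mathlib
import Cfsg.Prelude.Def_JComponents
import Cfsg.Agent.PLocal.ThompsonJ
import Cfsg.Agent.PLocal.ElemAbSup
import Cfsg.Agent.Lib.Cores
set_option linter.all false

/-!
Subgroup-level facts on conjugation, Sylow 2-subgroups of subgroups, `O₂`, the Thompson subgroup,
and `Ω₁(Z(·))`, for the analysis of `J(T)`-components (statements S2941-S2954).
-/

set_option autoImplicit false

namespace Cfsg.Agent.H251

open Cfsg Subgroup

section conj

variable {G : Type*} [Group G]

/-- The conjugate subgroup `g H g⁻¹`. -/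
abbrev cj (g : G) (H : Subgroup G) : Subgroup G := H.map (MulAut.conj g).toMonoidHom

theorem mem_cj {g x : G} {H : Subgroup G} : x ∈ cj g H ↔ g⁻¹ * x * g ∈ H := by
  constructor
  · rintro ⟨y, hy, rfl⟩
    have : g⁻¹ * (MulAut.conj g).toMonoidHom y * g = y := by
      simp only [MulEquiv.toMonoidHom_eq_coe, MonoidHom.coe_coe, MulAut.conj_apply]; group
    rw [this]; exact hy
  · intro h
    refine ⟨_, h, ?_⟩
    simp only [MulEquiv.toMonoidHom_eq_coe, MonoidHom.coe_coe, MulAut.conj_apply]; group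

theorem conj_mem_cj {g x : G} {H : Subgroup G} (hx : x ∈ H) : g * x * g⁻¹ ∈ cj g H := by
  rw [mem_cj]
  have : g⁻¹ * (g * x * g⁻¹) * g = x := by group
  rwa [this]

theorem cj_mul (g h : G) (H : Subgroup G) : cj (g * h) H = cj g (cj h H) := by
  ext x
  rw [mem_cj, mem_cj, mem_cj]
  have : (g * h)⁻¹ * x * (g * h) = h⁻¹ * (g⁻¹ * x * g) * h := by group
  rw [this]

theorem cj_one (H : Subgroup G) : cj 1 H = H := by
  ext x
  rw [mem_cj]
  simp

theorem cj_inv_cj (g : G) (H : Subgroup G) : cj g⁻¹ (cj g H) = H := by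
  rw [← cj_mul, inv_mul_cancel, cj_one]

theorem cj_cj_inv (g : G) (H : Subgroup G) : cj g (cj g⁻¹ H) = H := by
  rw [← cj_mul, mul_inv_cancel, cj_one]

theorem cj_mono {g : G} {H K : Subgroup G} (h : H ≤ K) : cj g H ≤ cj g K := Subgroup.map_mono h

theorem cj_le_iff {g : G} {H K : Subgroup G} : cj g H ≤ K ↔ H ≤ cj g⁻¹ K := by
  constructor
  · intro h
    have := cj_mono (g := g⁻¹) h
    rwa [cj_inv_cj] at this
  · intro h
    have := cj_mono (g := g) h
    rwa [cj_cj_inv] at this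

theorem cj_le_cj_iff {g : G} {H K : Subgroup G} : cj g H ≤ cj g K ↔ H ≤ K := by
  rw [cj_le_iff, cj_inv_cj]

theorem cj_injective (g : G) : Function.Injective (cj g : Subgroup G → Subgroup G) := by
  intro H K h
  exact le_antisymm (cj_le_cj_iff.1 h.le) (cj_le_cj_iff.1 h.ge)

theorem cj_bot (g : G) : cj g (⊥ : Subgroup G) = ⊥ := Subgroup.map_bot _

theorem cj_top (g : G) : cj g (⊤ : Subgroup G) = ⊤ := by
  ext x; rw [mem_cj]; simp

theorem cj_inf (g : G) (H K : Subgroup G) : cj g (H ⊓ K) = cj g H ⊓ cj g K := by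
  ext x
  simp only [mem_cj, Subgroup.mem_inf]

theorem cj_sup (g : G) (H K : Subgroup G) : cj g (H ⊔ K) = cj g H ⊔ cj g K := Subgroup.map_sup _ _ _

theorem cj_commutator (g : G) (H K : Subgroup G) : cj g ⁅H, K⁆ = ⁅cj g H, cj g K⁆ :=
  Subgroup.map_commutator _ _ _

theorem cj_eq_self_iff {g : G} {H : Subgroup G} : cj g H = H ↔ g ∈ normalizer (H : Set G) :=
  Subgroup.mem_normalizer_iff_map_conj_eq.symm

theorem cj_centralizer (g : G) (H : Subgroup G) :
    cj g (centralizer (H : Set G)) = centralizer (cj g H : Set G) := by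
  ext x
  rw [mem_cj, mem_centralizer_iff, mem_centralizer_iff]
  constructor
  · intro h y hy
    have h1 := h (g⁻¹ * y * g) (mem_cj.1 hy)
    have h2 : g * (g⁻¹ * y * g * (g⁻¹ * x * g)) * g⁻¹ = g * (g⁻¹ * x * g * (g⁻¹ * y * g)) * g⁻¹ := by
      rw [h1]
    calc y * x = g * (g⁻¹ * y * g * (g⁻¹ * x * g)) * g⁻¹ := by group
      _ = g * (g⁻¹ * x * g * (g⁻¹ * y * g)) * g⁻¹ := h2
      _ = x * y := by group
  · intro h y hy
    have h1 := h (g * y * g⁻¹) (conj_mem_cj hy)
    calc y * (g⁻¹ * x * g) = g⁻¹ * (g * y * g⁻¹ * x) * g := by group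
      _ = g⁻¹ * (x * (g * y * g⁻¹)) * g := by rw [h1]
      _ = g⁻¹ * x * g * y := by group

theorem cj_normalizer (g : G) (H : Subgroup G) :
    cj g (normalizer (H : Set G)) = normalizer (cj g H : Set G) := by
  ext x
  rw [mem_cj, ← cj_eq_self_iff, ← cj_eq_self_iff]
  constructor
  · intro h
    have h1 : cj x (cj g H) = cj g (cj (g⁻¹ * x * g) H) := by
      rw [← cj_mul, ← cj_mul]; congr 1; group
    rw [h1, h]
  · intro h
    have h1 : cj (g⁻¹ * x * g) H = cj g⁻¹ (cj x (cj g H)) := by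
      rw [← cj_mul, ← cj_mul]
    rw [h1, h, cj_inv_cj]

theorem card_cj (g : G) (H : Subgroup G) : Nat.card (cj g H) = Nat.card H :=
  PLocal.ThompsonJ.card_map_injective _ (MulAut.conj g).injective

theorem cj_relIndex (g : G) (H K : Subgroup G) : (cj g H).relIndex (cj g K) = H.relIndex K :=
  Subgroup.relIndex_map_map_of_injective _ _ (MulAut.conj g).injective

theorem isPGroup_cj {p : ℕ} {g : G} {H : Subgroup G} (h : IsPGroup p H) : IsPGroup p (cj g H) :=
  h.map _

theorem cj_eq_bot_iff {g : G} {H : Subgroup G} : cj g H = ⊥ ↔ H = ⊥ := by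
  rw [Subgroup.map_eq_bot_iff_of_injective _ (MulAut.conj g).injective]

theorem cj_eq_of_mem {g : G} {H K : Subgroup G} (hg : g ∈ K) (h : K ≤ normalizer (H : Set G)) :
    cj g H = H := cj_eq_self_iff.2 (h hg)

theorem cj_self_of_mem {g : G} {H : Subgroup G} (hg : g ∈ H) : cj g H = H :=
  cj_eq_self_iff.2 (le_normalizer hg)

theorem le_normalizer_iff_forall_cj {H K : Subgroup G} :
    K ≤ normalizer (H : Set G) ↔ ∀ g ∈ K, cj g H = H := by
  constructor
  · intro h g hg; exact cj_eq_self_iff.2 (h hg)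
  · intro h g hg; exact cj_eq_self_iff.1 (h g hg)

/-- For finite groups it is enough to have `≤`. -/
theorem le_normalizer_of_forall_cj_le {H K : Subgroup G} (h : ∀ g ∈ K, cj g H ≤ H) :
    K ≤ normalizer (H : Set G) := by
  rw [le_normalizer_iff_forall_cj]
  intro g hg
  refine le_antisymm (h g hg) ?_
  have := h g⁻¹ (inv_mem hg)
  rw [cj_le_iff, inv_inv] at this
  exact this

theorem mem_normalizer_of_cj_le [Finite G] {H : Subgroup G} {g : G} (h : cj g H ≤ H) :
    g ∈ normalizer (H : Set G) := by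
  rw [← cj_eq_self_iff]
  exact Subgroup.eq_of_le_of_card_ge h (card_cj g H).ge

end conj

end Cfsg.Agent.H251
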